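import Mathlib

/-! Isomorphisms of algebraically closed fields over a common subring. -/

universe u

namespace GenPointLib

open scoped Cardinal
open Algebra

lemma eq_of_add_eq {a x κ : Cardinal.{u}} (ha : a < ℵ₀) (hκ : ℵ₀ ≤ κ) (h : a + x = κ) : x = κ := by
  rcases lt_or_ge x ℵ₀ with hx | hx
  · exact absurd (h ▸ Cardinal.add_lt_aleph0 ha hx) (not_lt.2 hκ)
  · rwa [Cardinal.add_eq_right hx (ha.le.trans hx)] at h

lemma exists_ringEquiv {R K L : Type u} [CommRing R] [IsDomain R] [Field K] [Algebra R K] [Field L]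
    [Algebra R L] [FaithfulSMul R K] [FaithfulSMul R L] [IsAlgClosed K] [IsAlgClosed L]
    (h : trdeg R K = trdeg R L) :
    ∃ e : K ≃+* L, ∀ r : R, e (algebraMap R K r) = algebraMap R L r := by
  obtain ⟨s, hs⟩ := exists_isTranscendenceBasis R K
  obtain ⟨t, ht⟩ := exists_isTranscendenceBasis R L
  obtain ⟨σ⟩ := Cardinal.eq.1 (hs.cardinalMk_eq_trdeg.trans (h.trans ht.cardinalMk_eq_trdeg.symm))
  have := IsAlgClosed.isAlgClosure_of_transcendence_basis _ hs
  have := IsAlgClosed.isAlgClosure_of_transcendence_basis _ ht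
  let e := (hs.1.aevalEquiv.symm.trans (MvPolynomial.renameEquiv R σ)).trans ht.1.aevalEquiv
  refine ⟨IsAlgClosure.equivOfEquiv K L e.toRingEquiv, fun r => ?_⟩
  rw [IsScalarTower.algebraMap_apply R (Algebra.adjoin R (Set.range ((↑) : s → K))) K,
    IsAlgClosure.equivOfEquiv_algebraMap]
  show algebraMap _ L (e (algebraMap R _ r)) = _
  rw [e.commutes, ← IsScalarTower.algebraMap_apply]

lemma trdeg_eq_left {k₀ R₀ E : Type u} [Field k₀] [CommRing R₀] [IsDomain R₀] [Algebra k₀ R₀]
    [Algebra.FiniteType k₀ R₀] [Field E] [Algebra k₀ E] [Algebra R₀ E] [IsScalarTower k₀ R₀ E]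
    [FaithfulSMul R₀ E] {κ : Cardinal.{u}} (hκ : ℵ₀ ≤ κ) (h : trdeg k₀ E = κ) : trdeg R₀ E = κ :=
  eq_of_add_eq trdeg_lt_aleph0_of_finiteType hκ (h ▸ trdeg_add_eq k₀ R₀ (A := E))

lemma trdeg_algClosure {k₀ k R : Type u} [Field k₀] [Field k] [Algebra k₀ k] [CommRing R] [IsDomain R]
    [Algebra k R] [Algebra.FiniteType k R] [Algebra k₀ R] [IsScalarTower k₀ k R]
    (hκ : ℵ₀ ≤ trdeg k₀ k) :
    trdeg k₀ (AlgebraicClosure (FractionRing R)) = trdeg k₀ k := by
  have : FaithfulSMul R (FractionRing R) :=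
    (faithfulSMul_iff_algebraMap_injective _ _).2 (IsFractionRing.injective R (FractionRing R))
  have : FaithfulSMul R (AlgebraicClosure (FractionRing R)) :=
    (faithfulSMul_iff_algebraMap_injective _ _).2 (by
      rw [IsScalarTower.algebraMap_eq R (FractionRing R) (AlgebraicClosure (FractionRing R))]
      exact (algebraMap (FractionRing R) _).injective.comp (IsFractionRing.injective R (FractionRing R)))
  have : Algebra.IsAlgebraic R (FractionRing R) := IsLocalization.isAlgebraic (FractionRing R) (nonZeroDivisors R)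
  have : Algebra.IsAlgebraic R (AlgebraicClosure (FractionRing R)) :=
    Algebra.IsAlgebraic.trans R (FractionRing R) (AlgebraicClosure (FractionRing R))
  have h0 : trdeg R (AlgebraicClosure (FractionRing R)) = 0 := trdeg_eq_zero
  have h1 : trdeg k (AlgebraicClosure (FractionRing R)) = trdeg k R := by
    rw [← trdeg_add_eq k R (A := AlgebraicClosure (FractionRing R)), h0, add_zero]
  rw [← trdeg_add_eq k₀ k (A := AlgebraicClosure (FractionRing R)), h1]
  exact Cardinal.add_eq_left hκ (trdeg_lt_aleph0_of_finiteType.le.trans hκ)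

lemma exists_ringEquiv_of_algHom {k₀ R₀ K L : Type u} [Field k₀] [CommRing R₀] [Algebra k₀ R₀]
    [Algebra.FiniteType k₀ R₀] [Field K] [Algebra k₀ K] [IsAlgClosed K] [Field L] [Algebra k₀ L]
    [IsAlgClosed L] (φ : R₀ →ₐ[k₀] K) (ψ : R₀ →ₐ[k₀] L) (hφ : Function.Injective φ)
    (hψ : Function.Injective ψ) (hκ : ℵ₀ ≤ trdeg k₀ L) (h : trdeg k₀ K = trdeg k₀ L) :
    ∃ e : K ≃+* L, ∀ r, e (φ r) = ψ r := by
  have : IsDomain R₀ := hφ.isDomain φ.toRingHom
  let _ : Algebra R₀ K := φ.toRingHom.toAlgebra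
  let _ : Algebra R₀ L := ψ.toRingHom.toAlgebra
  have : IsScalarTower k₀ R₀ K := IsScalarTower.of_algebraMap_eq fun x => (φ.commutes x).symm
  have : IsScalarTower k₀ R₀ L := IsScalarTower.of_algebraMap_eq fun x => (ψ.commutes x).symm
  have : FaithfulSMul R₀ K := (faithfulSMul_iff_algebraMap_injective _ _).2 hφ
  have : FaithfulSMul R₀ L := (faithfulSMul_iff_algebraMap_injective _ _).2 hψ
  exact exists_ringEquiv ((trdeg_eq_left hκ h).trans (trdeg_eq_left hκ rfl).symm)

end GenPointLib
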